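import Cfsg.Agent.Chev.UCE.Cert

/-!
# Lifting certificates for type B2
-/

set_option autoImplicit false

namespace Cfsg.Agent.Chev.UCE

open Cfsg.Lie

/-- Table. -/
def posB2 : List (List ℕ) :=
  [
    [0, 70, 83, 57, 83, 44, 96, 0],
    [70, 0, 70, 71, 69, 71, 0, 72],
    [83, 70, 0, 43, 83, 0, 97, 124],
    [57, 71, 43, 0, 0, 71, 99, 85],
    [83, 69, 83, 0, 0, 125, 97, 111],
    [44, 71, 0, 71, 125, 0, 98, 85],
    [96, 0, 97, 99, 97, 98, 0, 98],
    [0, 72, 124, 85, 111, 85, 98, 0]]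

/-- Table. -/
def torB212 : List (List ℕ) :=
  [
    [0, 143, 143, 143, 143, 143, 143, 0],
    [167, 0, 167, 167, 167, 167, 0, 167],
    [144, 168, 0, 142, 142, 0, 168, 144],
    [141, 141, 141, 0, 0, 141, 141, 141],
    [141, 141, 141, 0, 0, 141, 141, 141],
    [144, 168, 0, 142, 142, 0, 168, 144],
    [167, 0, 167, 167, 167, 167, 0, 167],
    [0, 143, 143, 143, 143, 143, 143, 0]]

/-- Table. -/
def torB213 : List (List ℕ) :=
  [
    [0, 143, 143, 0, 0, 143, 143, 0],
    [144, 0, 0, 142, 142, 0, 0, 144],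
    [144, 0, 0, 142, 142, 0, 0, 144],
    [0, 141, 141, 0, 0, 141, 141, 0],
    [0, 141, 141, 0, 0, 141, 141, 0],
    [144, 0, 0, 142, 142, 0, 0, 144],
    [144, 0, 0, 142, 142, 0, 0, 144],
    [0, 143, 143, 0, 0, 143, 143, 0]]

/-- The configuration. -/
def cfgB2Two : Cfg :=
  ⟨[1, 2], fun C => C % 2 == 0, fun C => C % 2 != 0, false, false⟩

/-- Table. -/
def killB2Two : List (ℕ × ℕ × KW) := []

/-- Table. -/
def selfB2Two : List SW :=
  [
    .dec 1 4,
    .dec 0 5,
    .dec 0 6,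
    .dec 0 5,
    .dec 0 6,
    .dec 1 7,
    .dec 2 7,
    .dec 3 6]

/-- Table. -/
def famB2Two : List FW :=
  [
    .tor 83,
    .tor 71,
    .tor 83,
    .tor 83,
    .tor 83,
    .tor 83,
    .tor 71,
    .tor 83]

/-- The witnesses. -/
def witB2Two : Wit := ⟨posB2, torB212, killB2Two, selfB2Two, famB2Two⟩

theorem certB2Two : certOK chevB2 cfgB2Two witB2Two certB2 = true := by decide +kernel

/-- The configuration. -/
def cfgB2Odd : Cfg :=
  ⟨[1, 2], fun C => C == 0, fun C => C.natAbs == 1 || C.natAbs == 2, false, true⟩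

/-- Table. -/
def killB2Odd : List (ℕ × ℕ × KW) := []

/-- Table. -/
def selfB2Odd : List SW :=
  [
    .dec 1 2,
    .cheap 71,
    .cheap 97,
    .dec 0 5,
    .dec 0 6,
    .cheap 71,
    .cheap 97,
    .dec 3 6]

/-- Table. -/
def famB2Odd : List FW :=
  [
    .tor 83,
    .tor 71,
    .tor 83,
    .tor 83,
    .tor 83,
    .tor 83,
    .tor 71,
    .tor 83]

/-- The witnesses. -/
def witB2Odd : Wit := ⟨posB2, torB212, killB2Odd, selfB2Odd, famB2Odd⟩

theorem certB2Odd : certOK chevB2 cfgB2Odd witB2Odd certB2 = true := by decide +kernel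

/-- The configuration. -/
def cfgB2Three : Cfg :=
  ⟨[1, 3], fun C => C % 3 == 0, fun C => C % 3 != 0, true, false⟩

/-- Table. -/
def killB2Three : List (ℕ × ℕ × KW) :=
  [
    (0, 3, .swap [0]),
    (0, 4, .swap [1, 0, 1]),
    (3, 0, .swap [0]),
    (3, 7, .swap [1, 0, 1]),
    (4, 0, .swap [1, 0, 1]),
    (4, 7, .swap [0]),
    (7, 3, .swap [1, 0, 1]),
    (7, 4, .swap [0])]

/-- Table. -/
def selfB2Three : List SW :=
  [
    .cheap 0,
    .cheap 0,
    .cheap 0,
    .cheap 0,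
    .cheap 0,
    .cheap 0,
    .cheap 0,
    .cheap 0]

/-- Table. -/
def famB2Three : List FW :=
  [
    .br 1 2,
    .tor 71,
    .tor 71,
    .br 1 5,
    .br 2 6,
    .tor 71,
    .tor 71,
    .br 5 6]

/-- The witnesses. -/
def witB2Three : Wit := ⟨posB2, torB213, killB2Three, selfB2Three, famB2Three⟩

theorem certB2Three : certOK chevB2 cfgB2Three witB2Three certB2 = true := by decide +kernel

end Cfsg.Agent.Chev.UCE
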